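import Groth.Agent.L13.BlowTwo.Vanish
import Groth.Agent.L13.BlowUp.Proper
import Groth.Agent.L11.BlowSmooth.Sch
import Groth.Prelude.Def_CurvBase

/-!
The blow-up of an affine scheme in an ideal with two generators: two affine charts whose overlap has
split functions.
-/

set_option autoImplicit false
set_option linter.style.haveILetI false
set_option backward.isDefEq.respectTransparency false
universe u

open CategoryTheory CategoryTheory.Limits AlgebraicGeometry TopologicalSpace Opposite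
open Groth.L22 Groth.L13.BU Groth.L11.BlowSmooth

noncomputable section

namespace Groth.Agent.L13.BlowTwo

variable {A : Type u} [CommRing A] (f : Fin 2 → A)

/-- the degree one element of the `i`-th generator -/
abbrev gen (i : Fin 2) : reesAlgebra (sI f) := mon (sI f) 1 (f i) (mem_pow_one f i)

/-- the `i`-th chart of the affine blow-up -/
abbrev Dp (i : Fin 2) : (Proj (Rees.deg (reesAlgebra (sI f)))).Opens :=
  Proj.basicOpen (Rees.deg (reesAlgebra (sI f))) (gen f i)

theorem Dp_sup : Dp f 0 ⊔ Dp f 1 = ⊤ := by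
  refine top_le_iff.mp fun p _ => ?_
  by_contra hall
  obtain ⟨⟨a, ha⟩, hpa⟩ := Opens.mem_iSup.1 ((iSup_chart (I := sI f)).ge (Set.mem_univ p))
  rw [Proj.mem_basicOpen] at hpa
  have h0 : ∀ i, gen f i ∈ p.asHomogeneousIdeal := by
    intro i
    by_contra hi
    refine hall ?_
    fin_cases i
    · exact Or.inl hi
    · exact Or.inr hi
  apply hpa
  obtain ⟨r, hr⟩ := Ideal.mem_span_range_iff_exists_fun.1
    (by simpa using ha : a ∈ Ideal.span (Set.range f))
  have he : mon (sI f) 1 a ha = ∑ i, r i • gen f i := by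
    apply Subtype.ext
    subst hr
    simp [mon, map_sum, Polynomial.smul_monomial]
  rw [he]
  refine Ideal.sum_mem _ fun i _ => ?_
  rw [Algebra.smul_def]
  exact Ideal.mul_mem_left _ _ (h0 i)

theorem isAffineOpen_Dp (i : Fin 2) : IsAffineOpen (Dp f i) :=
  Proj.isAffineOpen_basicOpen _ _ (mon_mem (sI f) 1 (f i) (mem_pow_one f i)) one_pos

theorem isAffineOpen_inter : IsAffineOpen (Dp f 0 ⊓ Dp f 1) := by
  rw [← Proj.basicOpen_mul]
  exact Proj.isAffineOpen_basicOpen _ _
    (SetLike.mul_mem_graded (mon_mem (sI f) 1 (f 0) (mem_pow_one f 0)) (mon_mem (sI f) 1 (f 1) (mem_pow_one f 1)))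
    (Nat.add_pos_left one_pos 1)

theorem pow_two_mul_le (k : ℕ) :
    sI f ^ (2 * k) ≤ Ideal.span {f 0 ^ k} * sI f ^ k ⊔ Ideal.span {f 1 ^ k} * sI f ^ k := by
  have hs : sI f = Ideal.span {f 0} + Ideal.span {f 1} := by
    rw [Submodule.add_eq_sup, ← Ideal.span_union, sI]
    congr 1
    ext x
    simp [Fin.exists_fin_two, eq_comm, or_comm]
  have h0 : Ideal.span {f 0} ≤ sI f := hs ▸ le_sup_left
  have h1 : Ideal.span {f 1} ≤ sI f := hs ▸ le_sup_right
  conv_lhs => rw [hs, add_pow]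
  rw [Ideal.sum_eq_sup]
  refine Finset.sup_le fun i hi => ?_
  rw [Finset.mem_range] at hi
  refine Ideal.mul_le_left.trans ?_
  rcases le_or_gt k i with h | h
  · refine le_sup_of_le_left ?_
    calc Ideal.span {f 0} ^ i * Ideal.span {f 1} ^ (2 * k - i)
        = Ideal.span {f 0} ^ k * (Ideal.span {f 0} ^ (i - k) * Ideal.span {f 1} ^ (2 * k - i)) := by
          rw [← mul_assoc, ← pow_add, Nat.add_sub_cancel' h]
      _ ≤ Ideal.span {f 0} ^ k * (sI f ^ (i - k) * sI f ^ (2 * k - i)) :=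
          Ideal.mul_mono le_rfl (Ideal.mul_mono (Ideal.pow_right_mono h0 _) (Ideal.pow_right_mono h1 _))
      _ = _ := by rw [← pow_add, show i - k + (2 * k - i) = k by omega, Ideal.span_singleton_pow]
  · refine le_sup_of_le_right ?_
    calc Ideal.span {f 0} ^ i * Ideal.span {f 1} ^ (2 * k - i)
        = Ideal.span {f 1} ^ k * (Ideal.span {f 0} ^ i * Ideal.span {f 1} ^ (k - i)) := by
          rw [mul_left_comm, ← pow_add, show k + (k - i) = 2 * k - i by omega]
      _ ≤ Ideal.span {f 1} ^ k * (sI f ^ i * sI f ^ (k - i)) :=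
          Ideal.mul_mono le_rfl (Ideal.mul_mono (Ideal.pow_right_mono h0 _) (Ideal.pow_right_mono h1 _))
      _ = _ := by rw [← pow_add, show i + (k - i) = k by omega, Ideal.span_singleton_pow]

/-- The functions on the overlap of the two charts split. -/
theorem split_Proj (W : (Proj (Rees.deg (reesAlgebra (sI f)))).Opens) (hW : W = Dp f 0 ⊓ Dp f 1)
    (h0 : W ≤ Dp f 0) (h1 : W ≤ Dp f 1)
    (r : Γ(Proj (Rees.deg (reesAlgebra (sI f))), W)) :
    ∃ (a : Γ(Proj (Rees.deg (reesAlgebra (sI f))), Dp f 0)) (b : Γ(Proj (Rees.deg (reesAlgebra (sI f))), Dp f 1)),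
      (Proj (Rees.deg (reesAlgebra (sI f)))).presheaf.map (homOfLE h0).op a +
        (Proj (Rees.deg (reesAlgebra (sI f)))).presheaf.map (homOfLE h1).op b = r := by
  have d0 := mon_mem (sI f) 1 (f 0) (mem_pow_one f 0)
  have d1 := mon_mem (sI f) 1 (f 1) (mem_pow_one f 1)
  have hxmem : gen f 0 * gen f 1 ∈ Rees.deg (reesAlgebra (sI f)) (1 + 1) := SetLike.mul_mem_graded d0 d1
  obtain rfl : W = Proj.basicOpen (Rees.deg (reesAlgebra (sI f))) (gen f 0 * gen f 1) := by
    rw [hW, Proj.basicOpen_mul]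
  haveI : IsIso (Proj.awayToSection (Rees.deg (reesAlgebra (sI f))) (gen f 0 * gen f 1)) :=
    (Proj.basicOpenIsoAway (Rees.deg (reesAlgebra (sI f))) _ hxmem (by norm_num)).isIso_hom
  obtain ⟨z, rfl⟩ := ((ConcreteCategory.isIso_iff_bijective
    (Proj.awayToSection (Rees.deg (reesAlgebra (sI f))) (gen f 0 * gen f 1))).1 inferInstance).2 r
  obtain ⟨k, z, hz, rfl⟩ := HomogeneousLocalization.Away.mk_surjective _ hxmem z
  obtain ⟨c, hc, rfl⟩ := exists_mon (sI f) (k * 2) z (by simpa using hz)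
  obtain ⟨x, hx, y, hy, hxy⟩ := Submodule.mem_sup.1 (pow_two_mul_le f k (by rwa [mul_comm] at hc))
  obtain ⟨u, hu, rfl⟩ := Ideal.mem_span_singleton_mul.1 hx
  obtain ⟨v, hv, rfl⟩ := Ideal.mem_span_singleton_mul.1 hy
  have hmu : mon (sI f) k v hv ∈ Rees.deg (reesAlgebra (sI f)) (k • 1) := by
    rw [smul_eq_mul, mul_one]; exact mon_mem _ _ _ hv
  have hmu' : mon (sI f) k u hu ∈ Rees.deg (reesAlgebra (sI f)) (k • 1) := by
    rw [smul_eq_mul, mul_one]; exact mon_mem _ _ _ hu
  refine ⟨Proj.awayToSection _ (gen f 0) (HomogeneousLocalization.Away.mk _ d0 k (mon (sI f) k v hv) hmu),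
    Proj.awayToSection _ (gen f 1) (HomogeneousLocalization.Away.mk _ d1 k (mon (sI f) k u hu) hmu'), ?_⟩
  have e0 := congr($(Proj.awayMap_awayToSection (Rees.deg (reesAlgebra (sI f))) d1
    (rfl : gen f 0 * gen f 1 = gen f 0 * gen f 1))
    (HomogeneousLocalization.Away.mk _ d0 k (mon (sI f) k v hv) hmu))
  have e1 := congr($(Proj.awayMap_awayToSection (Rees.deg (reesAlgebra (sI f))) d0
    (mul_comm _ _ : gen f 0 * gen f 1 = gen f 1 * gen f 0))
    (HomogeneousLocalization.Away.mk _ d1 k (mon (sI f) k u hu) hmu'))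
  simp only [CommRingCat.hom_comp, RingHom.comp_apply, CommRingCat.hom_ofHom] at e0 e1
  refine (congrArg₂ (· + ·) e0.symm e1.symm).trans ?_
  rw [← map_add]
  congr 1
  rw [HomogeneousLocalization.awayMap_mk, HomogeneousLocalization.awayMap_mk]
  apply HomogeneousLocalization.val_injective
  rw [HomogeneousLocalization.val_add, HomogeneousLocalization.Away.val_mk, HomogeneousLocalization.Away.val_mk,
    HomogeneousLocalization.Away.val_mk, Localization.add_mk_self]
  congr 1
  rw [mon_pow, mon_pow, mon_mul, mon_mul]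
  apply Subtype.ext
  show Polynomial.monomial (k + k) (v * f 1 ^ k) + Polynomial.monomial (k + k) (u * f 0 ^ k) =
    Polynomial.monomial (k * 2) c
  rw [← map_add, mul_two, ← hxy]
  congr 1
  ring

/-- The two charts, transported to any blow-up. -/
theorem exists_two_charts {X : Scheme.{u}} (b : X ⟶ Spec (CommRingCat.of A))
    (hb : BlowUp.IsBlowUp b (idealOf (sI f))) :
    ∃ (U V : X.Opens), U ⊔ V = ⊤ ∧ IsAffineOpen U ∧ IsAffineOpen V ∧ IsAffineOpen (U ⊓ V) ∧
      ∀ r : Γ(X, U ⊓ V), ∃ (a : Γ(X, U)) (c : Γ(X, V)),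
        X.presheaf.map (homOfLE (inf_le_left : U ⊓ V ≤ U)).op a +
          X.presheaf.map (homOfLE (inf_le_right : U ⊓ V ≤ V)).op c = r := by
  obtain ⟨k, hk, -⟩ := hb.2 _ (reesToSpec (sI f)) (isBlowUp_rees (sI f)).1
  haveI := isIso_of_blowUps hb (isBlowUp_rees (sI f)) k hk
  let e := inv k
  refine ⟨e ⁻¹ᵁ Dp f 0, e ⁻¹ᵁ Dp f 1, ?_, (isAffineOpen_Dp f 0).preimage_of_isIso e,
    (isAffineOpen_Dp f 1).preimage_of_isIso e, ?_, ?_⟩
  · rw [← Scheme.Hom.preimage_sup, Dp_sup, Scheme.Hom.preimage_top]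
  · rw [← Scheme.Hom.preimage_inf]; exact (isAffineOpen_inter f).preimage_of_isIso e
  · intro r
    obtain ⟨r', hr'⟩ := ((ConcreteCategory.isIso_iff_bijective (e.app (Dp f 0 ⊓ Dp f 1))).1 inferInstance).2 r
    obtain ⟨a, c, h⟩ := split_Proj f _ rfl inf_le_left inf_le_right r'
    refine ⟨e.app _ a, e.app _ c, ?_⟩
    refine Eq.trans ?_ ((congrArg (e.app (Dp f 0 ⊓ Dp f 1)) h).trans hr')
    rw [map_add]
    exact congrArg₂ (· + ·)
      (congr($(Scheme.Hom.naturality e (homOfLE (inf_le_left : Dp f 0 ⊓ Dp f 1 ≤ Dp f 0)).op) a)).symm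
      (congr($(Scheme.Hom.naturality e (homOfLE (inf_le_right : Dp f 0 ⊓ Dp f 1 ≤ Dp f 1)).op) c)).symm

theorem curv2_idealSheaf (A : Type u) [CommRing A] (I : Ideal A) : Curv2.idealSheaf A I = idealOf I := rfl

theorem exists_gens {A : Type u} [CommRing A] [IsRegularLocalRing A] (hA : ringKrullDim A = 2) :
    ∃ f : Fin 2 → A, IsLocalRing.maximalIdeal A = sI f := by
  have h : ((IsLocalRing.maximalIdeal A).spanFinrank : WithBot ℕ∞) = 2 :=
    (IsRegularLocalRing.spanFinrank_maximalIdeal (R := A)).trans hA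
  have h2 : (IsLocalRing.maximalIdeal A).spanFinrank = 2 := by exact_mod_cast h
  have hg : (IsLocalRing.maximalIdeal A).generators.ncard = 2 :=
    (Submodule.FG.generators_ncard (IsNoetherian.noetherian _)).trans h2
  obtain ⟨x, y, -, hxy⟩ := Set.ncard_eq_two.1 hg
  refine ⟨![x, y], ?_⟩
  rw [sI, ← (IsLocalRing.maximalIdeal A).span_generators, hxy]
  congr 1
  ext z
  simp [Fin.exists_fin_two, eq_comm, or_comm]

end Groth.Agent.L13.BlowTwo
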