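import Groth.Agent.L17.CoverVanishing
import Groth.Agent.L20.ModStalk
import Groth.Agent.L02.Quot.GG
import Groth.Prelude.Def_Curv2

/-!
Two affine opens whose intersection has its functions split: globally generated modules have no `H¹`.
-/

set_option autoImplicit false
set_option linter.style.haveILetI false
set_option backward.isDefEq.respectTransparency false
universe u

open CategoryTheory CategoryTheory.Limits AlgebraicGeometry TopologicalSpace Opposite Abelian

noncomputable section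

namespace Groth.Agent.L13.BlowTwo

open Groth.L17

/-- A class on `U ⊔ V` vanishes when it dies on both pieces and every section on `U ⊓ V` splits. -/
theorem hu_sup_eq_zero_of_split {T : TopCat.{u}} {U V : Opens T} {F : AbSheaf T}
    (h : ∀ t : F.obj.obj (op (U ⊓ V)), ∃ (a : F.obj.obj (op U)) (b : F.obj.obj (op V)),
      F.obj.map (homOfLE (inf_le_left : U ⊓ V ≤ U)).op a + F.obj.map (homOfLE (inf_le_right : U ⊓ V ≤ V)).op b = t)
    (x : HU (U ⊔ V) F 1)
    (hU : huRes (le_sup_left : U ≤ U ⊔ V) x = 0) (hV : huRes (le_sup_right : V ≤ U ⊔ V) x = 0) :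
    x = 0 := by
  let S := Opens.mayerVietorisSquare U V
  obtain ⟨y, hy⟩ := Ext.contravariant_sequence_exact₃ (hS := S.shortComplex_shortExact) (Y := F) x (by
    apply Ext.biprod_ext
    · refine (Ext.mk₀_comp_mk₀_assoc _ _ _).trans (Eq.trans ?_ (Ext.comp_zero _ _ _ _ _).symm)
      refine Eq.trans ?_ hU
      congr 2
      exact biprod.inl_desc _ _
    · refine (Ext.mk₀_comp_mk₀_assoc _ _ _).trans (Eq.trans ?_ (Ext.comp_zero _ _ _ _ _).symm)
      refine Eq.trans ?_ hV
      congr 2
      exact biprod.inr_desc _ _) (Nat.add_comm 1 0)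
  obtain ⟨g, rfl⟩ := (Ext.mk₀_bijective _ _).2 y
  obtain ⟨a, b, hab⟩ := h (zEquiv (U ⊓ V) F g)
  have hg : g = S.shortComplex.f ≫ biprod.desc ((zEquiv U F).symm a) (-(zEquiv V F).symm b) := by
    apply (zAddEquiv (U ⊓ V) F).injective
    show zEquiv (U ⊓ V) F g = _
    rw [← hab]
    simp only [GrothendieckTopology.MayerVietorisSquare.shortComplex, biprod.lift_desc, Preadditive.neg_comp,
      Preadditive.comp_neg, neg_neg, map_add]
    exact congrArg₂ (· + ·)
      ((congrArg (F.obj.map (homOfLE (inf_le_left : U ⊓ V ≤ U)).op) ((zEquiv U F).apply_symm_apply a).symm).trans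
        (zEquiv_zMap (inf_le_left : U ⊓ V ≤ U) _).symm)
      ((congrArg (F.obj.map (homOfLE (inf_le_right : U ⊓ V ≤ V)).op) ((zEquiv V F).apply_symm_apply b).symm).trans
        (zEquiv_zMap (inf_le_right : U ⊓ V ≤ V) _).symm)
  rw [← hy, hg, ← Ext.mk₀_comp_mk₀, ← Ext.comp_assoc_of_second_deg_zero,
    S.shortComplex_shortExact.extClass_comp, Ext.zero_comp]

variable {X : Scheme.{u}}

open Groth.L18.Frame (rs ro rs_rs rs_self rs_smul)

/-- On an affine open, a globally generated quasi-coherent module is spanned by global sections. -/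
theorem span_rs_eq_top {F : X.Modules} [Coh.IsQCoh F] (hg : Curv2.IsGloballyGenerated F)
    {W : X.Opens} (hW : IsAffineOpen W) :
    Submodule.span Γ(X, W) (Set.range fun t : Γ(F, ⊤) => rs F (le_top : W ≤ ⊤) t) = ⊤ := by
  set M := Submodule.span Γ(X, W) (Set.range fun t : Γ(F, ⊤) => rs F (le_top : W ≤ ⊤) t) with hM
  rw [eq_top_iff]
  intro m _
  let I : Ideal Γ(X, W) := M.colon {m}
  suffices hI : I = ⊤ by
    have : (1 : Γ(X, W)) ∈ I := hI ▸ Submodule.mem_top
    have := Submodule.mem_colon_singleton.mp this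
    rwa [one_smul] at this
  by_contra hI
  obtain ⟨P, hP, hIP⟩ := Ideal.exists_le_maximal I hI
  let p : ↥(Spec Γ(X, W)) := ⟨P, hP.isPrime⟩
  let x : X := hW.fromSpec p
  have hx : x ∈ W := hW.range_fromSpec.le ⟨p, rfl⟩
  have hp : hW.primeIdealOf ⟨x, hx⟩ = p :=
    hW.fromSpec.isOpenEmbedding.injective (hW.fromSpec_primeIdealOf _)
  letI := Groth.L20.ModStalk.stalkModule F hx
  letI := X.presheaf.algebra_section_stalk ⟨x, hx⟩
  haveI := hW.isLocalization_stalk ⟨x, hx⟩
  haveI := Groth.L20.ModStalk.isLocalizedModule_germ F hW hx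
  haveI : IsScalarTower Γ(X, W) (X.presheaf.stalk x) (F.presheaf.stalk x) := IsScalarTower.of_algebraMap_smul fun _ _ => rfl
  have hspan : F.presheaf.germ W x hx m ∈
      Submodule.span (X.presheaf.stalk x) (Set.range fun t : Γ(F, ⊤) => F.presheaf.germ ⊤ x trivial t) := by
    rw [Groth.L02.Quot.span_germ_top_of_gg hg x]; trivial
  have hloc : F.presheaf.germ W x hx m ∈ M.localized' (X.presheaf.stalk x)
      (hW.primeIdealOf ⟨x, hx⟩).asIdeal.primeCompl (Groth.L20.ModStalk.germₗ F hx) := by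
    refine Submodule.span_le.mpr ?_ hspan
    rintro _ ⟨t, rfl⟩
    refine (Submodule.mem_localized' _ _ _ _ _).mpr ⟨rs F le_top t, Submodule.subset_span ⟨t, rfl⟩, 1, ?_⟩
    rw [IsLocalizedModule.mk'_one]
    exact TopCat.Presheaf.germ_res_apply F.presheaf (homOfLE (le_top : W ≤ ⊤)) x hx t
  obtain ⟨n, hn, s, hs⟩ := (Submodule.mem_localized' _ _ _ _ _).mp hloc
  have hs' : Groth.L20.ModStalk.germₗ F hx n = Groth.L20.ModStalk.germₗ F hx (s.1 • m) := by
    rw [map_smul]
    exact IsLocalizedModule.mk'_eq_iff.mp hs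
  obtain ⟨c, hc⟩ := IsLocalizedModule.exists_of_eq
    (S := (hW.primeIdealOf ⟨x, hx⟩).asIdeal.primeCompl) hs'
  have hmem : c.1 * s.1 ∈ I := by
    rw [Submodule.mem_colon_singleton, mul_smul]
    have hc' : c.1 • (s.1 • m) = c.1 • n := hc.symm
    rw [hc']
    exact M.smul_mem _ hn
  have hne : c.1 * s.1 ∉ (hW.primeIdealOf ⟨x, hx⟩).asIdeal := (c * s).2
  have hP' : (hW.primeIdealOf ⟨x, hx⟩).asIdeal = P := congrArg PrimeSpectrum.asIdeal hp
  exact hne ((SetLike.ext_iff.mp hP' _).mpr (hIP hmem))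

theorem sup_affine_data {U V : X.Opens} (hcov : U ⊔ V = ⊤) (hU : IsAffineOpen U) (hV : IsAffineOpen V)
    (hUV : IsAffineOpen (U ⊓ V)) (F : X.Modules) [Coh.IsQCoh F] (p : ℕ) (hp : 2 ≤ p) :
    Subsingleton (Coh.HH X F p) := by
  refine subsingleton_HH_of_affine_cover 2 ![U, V] ?_ (fun s hs => ?_) F p hp
  · rw [← hcov]
    refine le_antisymm (iSup_le fun i => ?_) (sup_le (le_iSup (![U, V]) 0) (le_iSup (![U, V]) 1))
    fin_cases i
    exacts [le_sup_left, le_sup_right]
  · have : s = {0} ∨ s = {1} ∨ s = Finset.univ := by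
      revert hs; revert s; decide
    rcases this with rfl | rfl | rfl
    · simpa using hU
    · simpa using hV
    · have e : (Finset.univ : Finset (Fin 2)).inf ![U, V] = U ⊓ V := by
        refine le_antisymm (le_inf (Finset.inf_le (Finset.mem_univ 0)) (Finset.inf_le (Finset.mem_univ 1))) ?_
        refine Finset.le_inf fun i _ => ?_
        fin_cases i
        exacts [inf_le_left, inf_le_right]
      rwa [e]

/-- `H¹` of a globally generated module vanishes if the functions on the overlap split. -/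
theorem subsingleton_H1 {U V : X.Opens} (hcov : U ⊔ V = ⊤) (hU : IsAffineOpen U) (hV : IsAffineOpen V)
    (hUV : IsAffineOpen (U ⊓ V))
    (hsplit : ∀ r : Γ(X, U ⊓ V), ∃ (a : Γ(X, U)) (b : Γ(X, V)),
      X.presheaf.map (homOfLE (inf_le_left : U ⊓ V ≤ U)).op a +
        X.presheaf.map (homOfLE (inf_le_right : U ⊓ V ≤ V)).op b = r)
    (F : X.Modules) [Coh.IsQCoh F] (hg : Curv2.IsGloballyGenerated F) : Subsingleton (Coh.HH X F 1) := by
  have hall : ∀ x : HU (X := X.toTopCat) (U ⊔ V) (Coh.toAb F) 1, x = 0 := by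
    refine fun x => hu_sup_eq_zero_of_split (fun s => ?_) x (hu_affine_eq_zero F hU 0 _) (hu_affine_eq_zero F hV 0 _)
    show ∃ (a : Γ(F, U)) (b : Γ(F, V)), rs F inf_le_left a + rs F inf_le_right b = s
    change Γ(F, U ⊓ V) at s
    have hs : s ∈ Submodule.span Γ(X, U ⊓ V) (Set.range fun t : Γ(F, ⊤) => rs F (le_top : U ⊓ V ≤ ⊤) t) := by
      rw [span_rs_eq_top hg hUV]; trivial
    suffices h : ∀ r : Γ(X, U ⊓ V), ∃ (a : Γ(F, U)) (b : Γ(F, V)),
        rs F inf_le_left a + rs F inf_le_right b = r • s by simpa only [one_smul] using h 1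
    clear x
    induction hs using Submodule.span_induction with
    | mem z hz =>
      obtain ⟨t, rfl⟩ := hz
      intro r
      obtain ⟨a, b, hab⟩ := hsplit r
      refine ⟨a • rs F le_top t, b • rs F le_top t, ?_⟩
      rw [rs_smul, rs_smul, rs_rs, rs_rs, ← add_smul]
      exact congrArg (· • rs F (le_top : U ⊓ V ≤ ⊤) t) hab
    | zero => exact fun r => ⟨0, 0, by simp [rs]⟩
    | add z z' _ _ h h' =>
      intro r
      obtain ⟨a, b, hab⟩ := h r
      obtain ⟨a', b', hab'⟩ := h' r
      refine ⟨a + a', b + b', ?_⟩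
      rw [smul_add, ← hab, ← hab']
      simp [rs]
      abel
    | smul r' z _ h =>
      intro r
      rw [smul_smul]
      exact h (r * r')
  rw [hcov] at hall
  have := subsingleton_of_forall_eq 0 hall
  exact (hTopEquiv (X := X.toTopCat) (Coh.toAb F) 1).subsingleton

end Groth.Agent.L13.BlowTwo
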