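import Groth.Agent.L11.BlowSmooth.Sch
import Groth.Agent.L13.BlowUp.Proper
import Groth.Agent.L07.OrderValuation
import Groth.Agent.L07.RegularQuotient
import Groth.Agent.L01.RootExt
import Groth.Agent.S0564
import Groth.Prelude.Def_CurvBase

/-!
The blow-up of a regular local ring in its maximal ideal is regular and irreducible.
-/

set_option autoImplicit false
set_option linter.style.haveILetI false
set_option backward.isDefEq.respectTransparency false
universe u

open CategoryTheory CategoryTheory.Limits AlgebraicGeometry TopologicalSpace Opposite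
open Groth.L22 Groth.L13.BU Groth.L11.BlowSmooth

noncomputable section

namespace Groth.Agent.L13.BlowTwo

theorem ev_surjective {A : Type u} [CommRing A] {c : ℕ} (f : Fin c → A) (i : Fin c) :
    Function.Surjective (ev f i) := by
  intro z
  obtain ⟨n, w, hw, rfl⟩ := frac_surjective (sI f) (f i) (mem_pow_one f i) z
  exact frac_mem_range_ev f i n w hw

/-- A chart at a point of the exceptional divisor. -/
theorem regular_chart {A : Type u} [CommRing A] [IsNoetherianRing A] {c : ℕ} (f : Fin c → A)
    (hmax : (sI f).IsMaximal) (hf : CAlgX.IsQuasiRegular f) (i : Fin c)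
    (q : Ideal (SC f i)) [q.IsPrime] (hq : sh f i (f i) ∈ q) :
    IsRegularLocalRing (Localization.AtPrime q) := by
  haveI : IsNoetherianRing (SC f i) := isNoetherianRing_of_surjective _ _ (ev f i) (ev_surjective f i)
  haveI : IsField (A ⧸ sI f) := (Ideal.Quotient.maximal_ideal_iff_isField_quotient _).1 hmax
  haveI : IsRegularRing (A ⧸ sI f) := by
    letI := (Ideal.Quotient.maximal_ideal_iff_isField_quotient _).1 hmax |>.toField
    infer_instance
  haveI : IsRegularRing (SC f i ⧸ (sI f).map (sh f i)) :=
    IsRegularRing.of_ringEquiv (R := MvPolynomial {j // j ≠ i} (A ⧸ sI f))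
      (RingEquiv.ofBijective (pres f i) ⟨pres_injective f i hf, pres_surjective f i⟩)
  have hle : (sI f).map (sh f i) ≤ q := by
    rw [map_ideal, Ideal.span_le, Set.singleton_subset_iff]; exact hq
  let φ : SC f i →+* Localization.AtPrime q := algebraMap (SC f i) (Localization.AtPrime q)
  haveI := Groth.L01.RootExt.isRegularLocalRing_quotient_localization ((sI f).map (sh f i)) q hle
  refine Groth.L07.RegQuot.isRegularLocalRing_of_quotient
    (J := ((sI f).map (sh f i)).map φ)
    ⟨[φ (sh f i (f i))], ⟨?_, ?_⟩, ?_⟩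
  · have hz : φ (sh f i (f i)) ∈
        nonZeroDivisors (Localization.AtPrime q) :=
      IsLocalization.map_nonZeroDivisors_le q.primeCompl (Localization.AtPrime q)
        ⟨sh f i (f i), chartHom_nonZeroDivisor (sI f) (f i) (mem_pow_one f i), rfl⟩
    refine (RingTheory.Sequence.isWeaklyRegular_cons_iff (Localization.AtPrime q) _ _).2
      ⟨fun x y hxy => (mul_cancel_left_mem_nonZeroDivisors hz).1 hxy, RingTheory.Sequence.IsWeaklyRegular.nil _ _⟩
  · intro h
    rw [Ideal.ofList_singleton, smul_eq_mul, Ideal.mul_top] at h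
    have hm : φ (sh f i (f i)) ∈
        IsLocalRing.maximalIdeal (Localization.AtPrime q) :=
      (IsLocalization.AtPrime.to_map_mem_maximal_iff _ q _).2 hq
    exact (IsLocalRing.maximalIdeal.isMaximal _).ne_top
      (top_le_iff.mp (h.le.trans ((Ideal.span_singleton_le_iff_mem _).2 hm)))
  · rw [map_ideal, Ideal.map_span, Set.image_singleton, Ideal.ofList_singleton]

/-- Regularity of a blow-up of a regular local ring in its maximal ideal. -/
theorem regular_blowUp {A : Type u} [CommRing A] [IsRegularLocalRing A] {X : Scheme.{u}}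
    (b : X ⟶ Spec (CommRingCat.of A)) (hb : BlowUp.IsBlowUp b (idealOf (IsLocalRing.maximalIdeal A))) (x : X) :
    IsRegularLocalRing (X.presheaf.stalk x) := by
  by_cases hx : b x = IsLocalRing.closedPoint A
  · obtain ⟨d, f, -, hspan, hf⟩ := Groth.L07.Order.exists_regular_parameters A
    rw [← hspan] at hb
    obtain ⟨k, hk, -⟩ := hb.2 _ (reesToSpec (sI f)) (isBlowUp_rees (sI f)).1
    haveI := isIso_of_blowUps hb (isBlowUp_rees (sI f)) k hk
    obtain ⟨p, hp⟩ : ∃ p, k p = x := ⟨inv k x, by rw [← Scheme.Hom.comp_apply, IsIso.inv_hom_id]; rfl⟩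
    obtain ⟨i, hi⟩ : ∃ i : Fin d, p ∈ Proj.basicOpen (Rees.deg (reesAlgebra (sI f)))
        (mon (sI f) 1 (f i) (mem_pow_one f i)) := by
      by_contra hall
      push Not at hall
      obtain ⟨⟨a, ha⟩, hpa⟩ := Opens.mem_iSup.1 ((iSup_chart (I := sI f)).ge (Set.mem_univ p))
      simp only [Proj.mem_basicOpen, not_not] at hall
      rw [Proj.mem_basicOpen] at hpa
      apply hpa
      obtain ⟨r, hr⟩ := Ideal.mem_span_range_iff_exists_fun.1 (by simpa using ha : a ∈ Ideal.span (Set.range f))
      have he : mon (sI f) 1 a ha = ∑ i, r i • mon (sI f) 1 (f i) (mem_pow_one f i) := by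
        apply Subtype.ext
        subst hr
        simp [mon, map_sum, Polynomial.smul_monomial]
      rw [he]
      refine Ideal.sum_mem _ fun i _ => ?_
      rw [Algebra.smul_def]
      exact Ideal.mul_mem_left _ _ (hall i)
    obtain ⟨w, hw⟩ : p ∈ (chartι (sI f) (f i) (mem_pow_one f i)).opensRange := by
      rw [Proj.opensRange_awayι]; exact hi
    let j := chartι (sI f) (f i) (mem_pow_one f i) ≫ k
    have hjb : j ≫ b = Spec.map (CommRingCat.ofHom (sh f i)) := by
      rw [Category.assoc, hk, chartι_reesToSpec]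
    have hjw : j w = x := by rw [Scheme.Hom.comp_apply]; exact (congrArg k hw).trans hp
    have hcl : PrimeSpectrum.comap (sh f i) w = IsLocalRing.closedPoint A := by
      rw [← hx, ← hjw]
      exact (congrArg (fun g : _ ⟶ Spec (CommRingCat.of A) => g w) hjb).symm
    have hmem : sh f i (f i) ∈ w.asIdeal := by
      have h1 : f i ∈ (PrimeSpectrum.comap (sh f i) w).asIdeal := by
        rw [hcl]
        show f i ∈ IsLocalRing.maximalIdeal A
        rw [← hspan]; exact Ideal.subset_span ⟨i, rfl⟩
      exact h1
    haveI := regular_chart f (by show (Ideal.span (Set.range f)).IsMaximal; rw [hspan]; exact IsLocalRing.maximalIdeal.isMaximal A) hf i w.asIdeal hmem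
    subst hjw
    exact IsRegularLocalRing.of_ringEquiv
      ((Spec.stalkIso _ w).commRingCatIsoToRingEquiv.symm.trans (asIso (j.stalkMap w)).commRingCatIsoToRingEquiv.symm)
  · have hns : b x ∉ (idealOf (IsLocalRing.maximalIdeal A)).support := by
      intro hmem
      refine hx (PrimeSpectrum.ext ((IsLocalRing.maximalIdeal.isMaximal A).eq_of_le (b x).isPrime.ne_top ?_).symm)
      intro a ha
      rw [Scheme.IdealSheafData.mem_support_iff_of_mem (U := ⟨⊤, isAffineOpen_top _⟩) (Set.mem_univ _), idealOf_top] at hmem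
      have h1 := (Scheme.mem_zeroLocus_iff _ _ _).1 hmem _ (Ideal.mem_map_of_mem _ ha)
      rw [basicOpen_eq_of_affine] at h1
      exact not_not.1 h1
    haveI := Groth.L22.Ideals.isIso_stalkMap hb x hns
    haveI := Groth.Agent.S0564.result A (b x).asIdeal
    exact IsRegularLocalRing.of_ringEquiv
      ((Spec.stalkIso _ (b x)).commRingCatIsoToRingEquiv.symm.trans (asIso (b.stalkMap x)).commRingCatIsoToRingEquiv)

end Groth.Agent.L13.BlowTwo

namespace Groth.Agent.L13.BlowTwo

/-- A blow-up of an irreducible scheme in an ideal with proper support is irreducible. -/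
theorem irreducible_blowUp {X Y : Scheme.{u}} [IrreducibleSpace Y] (b : X ⟶ Y) {I : Y.IdealSheafData}
    (hb : BlowUp.IsBlowUp b I) (hI : (I.support.compl : Set Y).Nonempty) : IrreducibleSpace X := by
  haveI := Groth.L22.Ideals.isIso_restrict_compl hb
  let U := b ⁻¹ᵁ I.support.compl
  have hne : Nonempty ↥(I.support.compl : Scheme.{u}) := ⟨⟨hI.choose, hI.choose_spec⟩⟩
  haveI : IrreducibleSpace ↥(I.support.compl : Scheme.{u}) :=
    isIrreducible_iff_irreducibleSpace.1
      ⟨hI, PreirreducibleSpace.isPreirreducible_univ.open_subset I.support.compl.2 (Set.subset_univ _)⟩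
  haveI : IrreducibleSpace ↥(U : Scheme.{u}) :=
    (asIso (b ∣_ I.support.compl)).hom.homeomorph.irreducibleSpace_iff.mpr inferInstance
  have hirr : IsIrreducible (U : Set X) := isIrreducible_iff_irreducibleSpace.2 ‹_›
  have hd : Dense (U : Set X) := by
    rw [dense_iff_inter_open]
    intro W hW ⟨x, hx⟩
    obtain ⟨_, ⟨V, hV, rfl⟩, hxV, hVW⟩ := X.isBasis_affineOpens.exists_subset_of_mem_open hx hW
    by_contra hemp
    have h0 : (1 : Γ(X, V)) = 0 := Groth.L22.Ideals.eq_zero_of_eq_zero_off_exceptional hb (V := ⟨V, hV⟩) 1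
      fun y hy hys => absurd ⟨y, hVW hy, hys⟩ hemp
    have := congrArg (X.presheaf.germ V x hxV) h0
    rw [map_one, map_zero] at this
    exact one_ne_zero this
  refine (irreducibleSpace_def X).mpr ?_
  rw [Set.top_eq_univ, ← hd.closure_eq]
  exact hirr.closure

end Groth.Agent.L13.BlowTwo
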